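import Groth.Agent.QCohColim92.Qcqs
import Groth.Agent.QCoh.AlgGen

/-!
# Morphisms from modules of finite presentation into filtered colimits of quasi-coherent modules
-/

set_option autoImplicit false

universe u

open CategoryTheory CategoryTheory.Limits AlgebraicGeometry TopologicalSpace Opposite

namespace Groth.Agent.QCohColim92

open Groth.Agent.QCoh

attribute [local instance] Groth.Agent.QCoh.hasFiniteBiproducts

variable {X : Scheme.{u}} {J : Type u} [SmallCategory J] [IsFiltered J] {D : J ⥤ X.Modules} {c : Cocone D}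

theorem exists_finite_affine_cover (X : Scheme.{u}) [CompactSpace X] :
    ∃ s : Finset X.affineOpens, ∀ x : X, ∃ V : s, x ∈ V.1.1 := by
  obtain ⟨s, hs⟩ := isCompact_univ.elim_finite_subcover (fun V : X.affineOpens => (V.1 : Set X))
    (fun V => V.1.2) fun x _ => by
      obtain ⟨U, hU, hxU⟩ := exists_affine_mem x
      exact Set.mem_iUnion.2 ⟨⟨U, hU⟩, hxU⟩
  refine ⟨s, fun x => ?_⟩
  obtain ⟨k, hk, hx⟩ := Set.mem_iUnion₂.1 (hs (Set.mem_univ x))
  exact ⟨⟨k, hk⟩, hx⟩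

theorem exists_comp_eq_zero [CompactSpace X] (hD : ∀ j, Coh.IsQCoh (D.obj j)) (hc : IsColimit c)
    {G : X.Modules} (hG : Coh.IsQCoh G) (hft : CohB1.IsFT G) {j : J} (ψ : G ⟶ D.obj j)
    (h : ψ ≫ c.ι.app j = 0) : ∃ (k : J) (f : j ⟶ k), ψ ≫ D.map f = 0 := by
  classical
  obtain ⟨s, hcov⟩ := exists_finite_affine_cover X
  choose T hT using fun V : s => (finite_of_isFT hG hft V.1.2).fg_top
  have hz : ∀ p : Σ V : s, (T V : Set Γ(G, V.1.1)), ∃ (k : J) (f : j ⟶ k),
      (D.map f).app p.1.1.1 (ψ.app p.1.1.1 p.2.1) = 0 := fun p =>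
    exists_map_eq_zero hD hc p.1.1.2 _ congr(($h).app p.1.1.1 p.2.1)
  choose k f hf using hz
  let fs : Finset (Σ' (a b : J) (_ : a ∈ insert j (Finset.univ.image k))
      (_ : b ∈ insert j (Finset.univ.image k)), a ⟶ b) :=
    Finset.univ.image fun p => ⟨j, k p, Finset.mem_insert_self _ _,
      Finset.mem_insert_of_mem (Finset.mem_image_of_mem k (Finset.mem_univ p)), f p⟩
  obtain ⟨m, g, hg⟩ := IsFiltered.sup_exists _ fs
  refine ⟨m, g (Finset.mem_insert_self _ _), hom_eq_zero_of_cover hG (hD m) _ (fun V : s => V.1.1)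
    (fun V => V.1.2) hcov fun V => ?_⟩
  refine fun x => LinearMap.congr_fun (f := appLin (ψ ≫ D.map (g (Finset.mem_insert_self _ _))) V.1.1)
    (g := 0) (LinearMap.ext_on (hT V) fun t ht => ?_) x
  have hp := hg (Finset.mem_insert_self _ _)
    (Finset.mem_insert_of_mem (Finset.mem_image_of_mem k (Finset.mem_univ ⟨V, t, ht⟩)))
    (Finset.mem_image_of_mem _ (Finset.mem_univ (⟨V, t, ht⟩ : Σ V : s, (T V : Set Γ(G, V.1.1)))))
  show (D.map (g _)).app V.1.1 (ψ.app V.1.1 t) = 0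
  rw [← hp, D.map_comp]
  exact (congrArg ((D.map (g _)).app V.1.1) (hf ⟨V, t, ht⟩)).trans (map_zero _)

theorem exists_hom_lift [CompactSpace X] [QuasiSeparatedSpace X] (hD : ∀ j, Coh.IsQCoh (D.obj j))
    (hc : IsColimit c) {F : X.Modules} (hF : CohB1.IsFP F) (φ : F ⟶ c.pt) :
    ∃ (j : J) (ψ : F ⟶ D.obj j), ψ ≫ c.ι.app j = φ := by
  classical
  have hFq : Coh.IsQCoh F := isQCoh_of_isFP hF
  obtain ⟨s, hcov⟩ := exists_finite_affine_cover X
  have hFfin : ∀ V : s, Module.Finite Γ(X, V.1.1) Γ(F, V.1.1) := fun V =>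
    haveI := finitePresentation_of_isFP hF V.1.2
    inferInstance
  choose T hT using fun V : s => (hFfin V).fg_top
  have hrep : ∀ p : Σ V : s, (T V : Set Γ(F, V.1.1)), ∃ (j : J) (t : Γ(D.obj j, p.1.1.1)),
      (c.ι.app j).app p.1.1.1 t = φ.app p.1.1.1 p.2.1 := fun p => exists_rep hD hc p.1.1.2 _
  choose jr r hr using hrep
  obtain ⟨j, hj⟩ := IsFiltered.sup_objs_exists (Finset.univ.image jr)
  have hpt := isQCoh_pt hD hc
  let M : X.Modules := F ⊞ D.obj j
  let S : ShortComplex X.Modules :=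
    ShortComplex.mk (biprod.inl : F ⟶ M) biprod.snd biprod.inl_snd
  have hM : Coh.IsQCoh M :=
    isQCoh_X₂ (ShortComplex.Splitting.ofHasBinaryBiproduct _ _).shortExact (S := S) hFq (hD j)
  let δ : M ⟶ c.pt := biprod.fst ≫ φ - biprod.snd ≫ c.ι.app j
  have hK : Coh.IsQCoh (kernel δ) := isQCoh_kernel hM hpt δ
  have hlift : ∀ p : Σ V : s, (T V : Set Γ(F, V.1.1)), ∃ w : Γ(kernel δ, p.1.1.1),
      (kernel.ι δ ≫ biprod.fst).app p.1.1.1 w = p.2.1 := fun p => by
    let t' := (D.map (hj (Finset.mem_image_of_mem jr (Finset.mem_univ p))).some).app p.1.1.1 (r p)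
    obtain ⟨w, hw⟩ := exists_kernel_lift δ p.1.1.1
      ((biprod.inl : F ⟶ M).app p.1.1.1 p.2.1 + (biprod.inr : D.obj j ⟶ M).app p.1.1.1 t') (by
        have h1 : (biprod.inl : F ⟶ M) ≫ δ = φ := by simp [δ, M]
        have h2 : (biprod.inr : D.obj j ⟶ M) ≫ δ = -c.ι.app j := by simp [δ, M]
        rw [map_add]
        refine Eq.trans (congr_arg₂ (· + ·) (congr(($h1).app p.1.1.1 p.2.1))
          (congr(($h2).app p.1.1.1 t'))) ?_
        show φ.app p.1.1.1 p.2.1 + -(show Γ(c.pt, p.1.1.1) from (c.ι.app j).app p.1.1.1 t') = 0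
        rw [← sub_eq_add_neg, sub_eq_zero, ← hr p]
        exact (congr(($(c.w _)).app p.1.1.1 (r p)) : _).symm)
    refine ⟨w, ?_⟩
    show (biprod.fst : M ⟶ F).app p.1.1.1 ((kernel.ι δ).app p.1.1.1 w) = _
    rw [hw, map_add]
    refine (congr_arg₂ (· + ·) (congr(($(biprod.inl_fst (X := F) (Y := D.obj j))).app p.1.1.1 p.2.1))
      (congr(($(biprod.inr_fst (X := F) (Y := D.obj j))).app p.1.1.1 t'))).trans ?_
    exact add_zero _
  choose w hw using hlift
  have hext : ∀ V : s, ∃ N : SubMod (kernel δ), FTOn N ⊤ ∧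
      (Set.range fun t : (T V : Set Γ(F, V.1.1)) => w (⟨V, t⟩ : Σ V : s, (T V : Set Γ(F, V.1.1)))) ⊆
        (N.mem V.1.1 : Set Γ(kernel δ, V.1.1)) := fun V =>
    exists_ftOn_contains hK V.1.2 (extStep_qcqs V.1.2.isCompact) _ (Set.finite_range _)
  choose N hN hwN using hext
  have hNq := isQCoh_of_ftOn hK (ftOn_sumSub N hN)
  let π : (sumSub N).toModules ⟶ F := (sumSub N).ι ≫ kernel.ι δ ≫ biprod.fst
  let ψ₀ : (sumSub N).toModules ⟶ D.obj j := (sumSub N).ι ≫ kernel.ι δ ≫ biprod.snd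
  haveI : Epi π := epi_of_cover hNq hFq π (fun V : s => V.1.1) (fun V => V.1.2) hcov fun V =>
    LinearMap.range_eq_top (f := appLin π V.1.1).1 (top_unique (by
      rw [← hT V]
      refine Submodule.span_le.2 fun t ht => ?_
      obtain ⟨n, hn⟩ := (sumSub N).exists_app_eq (le_sumSub N V _ (hwN V ⟨⟨t, ht⟩, rfl⟩))
      refine ⟨n, ?_⟩
      show (biprod.fst : M ⟶ F).app V.1.1 ((kernel.ι δ).app V.1.1 ((sumSub N).ι.app V.1.1 n)) = t
      rw [hn]
      exact hw ⟨V, t, ht⟩))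
  have hπ : π ≫ φ = ψ₀ ≫ c.ι.app j := by
    have h := kernel.condition δ
    rw [Preadditive.comp_sub, sub_eq_zero] at h
    simp only [π, ψ₀, Category.assoc, h]
  have hR : Coh.IsQCoh (kernel π) := isQCoh_kernel hNq hFq π
  have hRft : CohB1.IsFT (kernel π) := by
    refine isFT_of_finite hR (fun V : s => V.1.1)
      (top_unique fun x _ => Opens.mem_iSup.2 (hcov x)) (fun V => V.1.2) fun V => ?_
    haveI := finitePresentation_of_isFP hF V.1.2
    haveI := finite_of_isFT hNq (isFT_of_ftOn hK (ftOn_sumSub N hN)) V.1.2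
    have hker := Module.FinitePresentation.fg_ker (appLin π V.1.1)
      (app_surjective_of_epi hNq hFq π V.1.2)
    have hr : LinearMap.range (appLin (kernel.ι π) V.1.1) = LinearMap.ker (appLin π V.1.1) := by
      ext x
      exact ⟨fun ⟨y, hy⟩ => hy ▸ congr(($(kernel.condition π)).app V.1.1 y),
        fun hx => exists_kernel_lift π V.1.1 x hx⟩
    haveI : Module.Finite Γ(X, V.1.1) (LinearMap.range (appLin (kernel.ι π) V.1.1)) :=
      Module.Finite.iff_fg.2 (hr ▸ hker)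
    exact Module.Finite.equiv
      (LinearEquiv.ofInjective (appLin (kernel.ι π) V.1.1) (app_injective (kernel.ι π) V.1.1)).symm
  obtain ⟨k, f, hf⟩ := exists_comp_eq_zero hD hc hR hRft (kernel.ι π ≫ ψ₀)
    (by rw [Category.assoc, ← hπ, kernel.condition_assoc, zero_comp])
  rw [Category.assoc] at hf
  refine ⟨k, Abelian.epiDesc π (ψ₀ ≫ D.map f) hf, ?_⟩
  rw [← cancel_epi π, Abelian.comp_epiDesc_assoc, Category.assoc, c.w, hπ]

end Groth.Agent.QCohColim92
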