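import Groth.Agent.QCohColim92.Sections
import Groth.Agent.QCoh.SubCompare

/-!
# An epimorphism from a filtered colimit onto a finite type module comes from a finite stage
-/

set_option autoImplicit false

universe u

open CategoryTheory CategoryTheory.Limits AlgebraicGeometry TopologicalSpace Opposite

namespace Groth.Agent.QCohColim92

open Groth.Agent.QCoh

variable {X : Scheme.{u}}

theorem epi_of_cover {M N : X.Modules} (hM : Coh.IsQCoh M) (hN : Coh.IsQCoh N) (φ : M ⟶ N)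
    {κ : Type*} (U : κ → X.Opens) (haff : ∀ k, IsAffineOpen (U k)) (hU : ∀ x : X, ∃ k, x ∈ U k)
    (h : ∀ k, Function.Surjective (φ.app (U k))) : Epi φ := by
  refine Preadditive.epi_of_isZero_cokernel φ
    (isZero_of_cover (isQCoh_cokernel hM hN φ) U haff hU fun k => subsingleton_of_forall_eq 0 fun y => ?_)
  obtain ⟨z, rfl⟩ := app_surjective_of_epi hN (isQCoh_cokernel hM hN φ) (cokernel.π φ) (haff k) y
  obtain ⟨a, rfl⟩ := h k z
  exact congr(($(cokernel.condition φ)).app (U k) a)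

theorem epi_iff_eventually_epi [CompactSpace X] {J : Type u} [SmallCategory J] [IsFiltered J]
    (D : J ⥤ X.Modules) (hD : ∀ j, Coh.IsQCoh (D.obj j)) (c : Cocone D) (hc : IsColimit c)
    {F : X.Modules} (hFq : Coh.IsQCoh F) (hF : CohB1.IsFT F) (u : c.pt ⟶ F) :
    Epi u ↔ ∃ j₀ : J, ∀ j : J, Nonempty (j₀ ⟶ j) → Epi (c.ι.app j ≫ u) := by
  classical
  refine ⟨fun hu => ?_, fun ⟨j₀, h⟩ => have := h j₀ ⟨𝟙 j₀⟩; epi_of_epi (c.ι.app j₀) u⟩
  obtain ⟨s, hs⟩ := isCompact_univ.elim_finite_subcover (fun V : X.affineOpens => (V.1 : Set X))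
    (fun V => V.1.2) fun x _ => by
      obtain ⟨U, hU, hxU⟩ := exists_affine_mem x
      exact Set.mem_iUnion.2 ⟨⟨U, hU⟩, hxU⟩
  have hcov : ∀ x : X, ∃ k : s, x ∈ k.1.1 := fun x => by
    obtain ⟨k, hk, hx⟩ := Set.mem_iUnion₂.1 (hs (Set.mem_univ x))
    exact ⟨⟨k, hk⟩, hx⟩
  have hgen : ∀ k : s, ∃ T : Finset Γ(F, k.1.1), Submodule.span Γ(X, k.1.1) (T : Set Γ(F, k.1.1)) = ⊤ :=
    fun k => (finite_of_isFT hFq hF k.1.2).fg_top
  choose T hT using hgen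
  have hrep : ∀ p : Σ k : s, (T k : Set Γ(F, k.1.1)), ∃ (j : J) (t : Γ(D.obj j, p.1.1.1)),
      (c.ι.app j ≫ u).app p.1.1.1 t = p.2.1 := by
    intro p
    obtain ⟨g, hg⟩ := app_surjective_of_epi (isQCoh_pt hD hc) hFq u p.1.1.2 p.2.1
    obtain ⟨j, t, rfl⟩ := exists_rep hD hc p.1.1.2 g
    exact ⟨j, t, hg⟩
  choose j t ht using hrep
  obtain ⟨j₀, hj₀⟩ := IsFiltered.sup_objs_exists (Finset.univ.image j)
  refine ⟨j₀, fun i ⟨a⟩ => epi_of_cover (hD i) hFq _ (fun k : s => k.1.1) (fun k => k.1.2) hcov fun k => ?_⟩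
  refine LinearMap.range_eq_top (f := appLin (c.ι.app i ≫ u) k.1.1).1 (top_unique ?_)
  rw [← hT k]
  refine Submodule.span_le.2 fun f hf => ?_
  obtain ⟨b⟩ := hj₀ (Finset.mem_image_of_mem j (Finset.mem_univ ⟨k, f, hf⟩))
  refine ⟨(D.map (b ≫ a)).app k.1.1 (t ⟨k, f, hf⟩), ?_⟩
  refine Eq.trans ?_ (ht ⟨k, f, hf⟩)
  exact congr(($((c.w_assoc (b ≫ a) u))).app k.1.1 (t ⟨k, f, hf⟩))

end Groth.Agent.QCohColim92
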