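import Groth.Agent.QCohColim92.Sections
import Groth.Agent.QCohColim92.EpiCrit
import Groth.Agent.QCoh.Qcqs

/-!
# Sections of filtered colimits of quasi-coherent modules over quasi-compact quasi-separated opens
-/

set_option autoImplicit false

universe u

open CategoryTheory CategoryTheory.Limits AlgebraicGeometry TopologicalSpace Opposite

namespace Groth.Agent.QCohColim92

open Groth.Agent.QCoh

variable {X : Scheme.{u}} {J : Type u} [SmallCategory J] [IsFiltered J] {D : J ⥤ X.Modules} {c : Cocone D}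

theorem exists_map_eq_zero_of_isCompact (hD : ∀ j, Coh.IsQCoh (D.obj j)) (hc : IsColimit c) {W : X.Opens}
    (hW : IsCompact (W : Set X)) {j : J} (t : Γ(D.obj j, W)) (h : (c.ι.app j).app W t = 0) :
    ∃ (k : J) (f : j ⟶ k), (D.map f).app W t = 0 := by
  revert t h
  refine compact_open_induction_on (P := fun W => ∀ t : Γ(D.obj j, W), (c.ι.app j).app W t = 0 →
    ∃ (k : J) (f : j ⟶ k), (D.map f).app W t = 0) W hW ?_ ?_
  · exact fun t _ => ⟨j, 𝟙 j, eq_zero_of_locally _ _ fun p hp => absurd hp id⟩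
  · intro S hS U ih t h
    obtain ⟨k₁, f₁, h₁⟩ := ih ((D.obj j).presheaf.map (homOfLE (le_sup_left : S ≤ S ⊔ U.1)).op t)
      (by rw [map_app_comm, h, map_zero])
    obtain ⟨k₂, f₂, h₂⟩ := exists_map_eq_zero hD hc U.2
      ((D.obj j).presheaf.map (homOfLE (le_sup_right : U.1 ≤ S ⊔ U.1)).op t)
      (by rw [map_app_comm, h, map_zero])
    obtain ⟨k, g₁, g₂, hg⟩ := IsFiltered.span f₁ f₂
    refine ⟨k, f₁ ≫ g₁, eq_zero_of_locally _ _ fun p hp => ?_⟩
    rcases hp with hp | hp
    · refine ⟨S, homOfLE le_sup_left, hp, ?_⟩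
      rw [← map_app_comm, D.map_comp]
      exact (congrArg ((D.map g₁).app S) h₁).trans (map_zero _)
    · refine ⟨U.1, homOfLE le_sup_right, hp, ?_⟩
      rw [← map_app_comm, hg, D.map_comp]
      exact (congrArg ((D.map g₂).app U.1) h₂).trans (map_zero _)

theorem exists_rep_of_qcqs [QuasiSeparatedSpace X] (hD : ∀ j, Coh.IsQCoh (D.obj j)) (hc : IsColimit c)
    {W : X.Opens} (hW : IsCompact (W : Set X)) (s : Γ(c.pt, W)) :
    ∃ (j : J) (t : Γ(D.obj j, W)), (c.ι.app j).app W t = s := by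
  revert s
  refine compact_open_induction_on (P := fun W => ∀ s : Γ(c.pt, W),
    ∃ (j : J) (t : Γ(D.obj j, W)), (c.ι.app j).app W t = s) W hW ?_ ?_
  · intro s
    obtain ⟨j⟩ := IsFiltered.nonempty (C := J)
    exact ⟨j, 0, (map_zero _).trans (eq_zero_of_locally _ _ fun p hp => absurd hp id).symm⟩
  · intro S hS U ih s
    obtain ⟨j₁, t₁, ht₁⟩ := ih (c.pt.presheaf.map (homOfLE (le_sup_left : S ≤ S ⊔ U.1)).op s)
    obtain ⟨j₂, t₂, ht₂⟩ := exists_rep hD hc U.2
      (c.pt.presheaf.map (homOfLE (le_sup_right : U.1 ≤ S ⊔ U.1)).op s)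
    let j := IsFiltered.max j₁ j₂
    let a := IsFiltered.leftToMax j₁ j₂
    let b := IsFiltered.rightToMax j₁ j₂
    have hcomm : ∀ {i i' : J} (a : i ⟶ i') (V : X.Opens) (x : Γ(D.obj i, V)),
        (c.ι.app i').app V ((D.map a).app V x) = (c.ι.app i).app V x := fun a V x =>
      congr(($(c.w a)).app V x)
    have hint : IsCompact ((S ⊓ U.1 : X.Opens) : Set X) :=
      QuasiSeparatedSpace.inter_isCompact _ _ S.2 hS U.1.2 U.2.isCompact
    obtain ⟨k, f, hk⟩ := exists_map_eq_zero_of_isCompact hD hc hint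
      ((D.obj j).presheaf.map (homOfLE (inf_le_left : S ⊓ U.1 ≤ S)).op ((D.map a).app S t₁) -
        (D.obj j).presheaf.map (homOfLE (inf_le_right : S ⊓ U.1 ≤ U.1)).op ((D.map b).app U.1 t₂))
      (by
        rw [map_sub, map_app_comm, map_app_comm, hcomm, hcomm, ht₁, ht₂, sub_eq_zero]
        show c.pt.presheaf.map _ (c.pt.presheaf.map _ s) = c.pt.presheaf.map _ (c.pt.presheaf.map _ s)
        rw [map_map, map_map]
        rfl)
    rw [map_sub, sub_eq_zero, map_app_comm, map_app_comm] at hk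
    let V : ULift.{u} Bool → X.Opens := fun i => bif i.down then S else U.1
    let sf : ∀ i, Γ(D.obj k, V i) := fun i => match i with
      | ⟨true⟩ => (D.map f).app S ((D.map a).app S t₁)
      | ⟨false⟩ => (D.map f).app U.1 ((D.map b).app U.1 t₂)
    obtain ⟨t, ht, -⟩ := TopCat.Sheaf.existsUnique_gluing' ⟨(D.obj k).presheaf, (D.obj k).isSheaf⟩ V (S ⊔ U.1)
      (fun ⟨i⟩ => homOfLE (by cases i; exacts [le_sup_right, le_sup_left]))
      (sup_le (le_iSup V ⟨true⟩) (le_iSup V ⟨false⟩)) sf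
      (by
        rintro ⟨i⟩ ⟨i'⟩
        cases i <;> cases i'
        · rfl
        · have := congrArg ((D.obj k).presheaf.map (homOfLE (le_of_eq (inf_comm U.1 S))).op) hk.symm
          rw [map_map, map_map] at this
          exact this
        · exact hk
        · rfl)
    refine ⟨k, t, sub_eq_zero.1 (eq_zero_of_locally _ _ fun p hp => ?_)⟩
    rcases hp with hp | hp
    · refine ⟨S, homOfLE le_sup_left, hp, ?_⟩
      rw [map_sub, ← map_app_comm, sub_eq_zero]
      refine (congrArg ((c.ι.app k).app S) (ht ⟨true⟩)).trans ?_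
      exact (hcomm f S _).trans ((hcomm a S t₁).trans ht₁)
    · refine ⟨U.1, homOfLE le_sup_right, hp, ?_⟩
      rw [map_sub, ← map_app_comm, sub_eq_zero]
      refine (congrArg ((c.ι.app k).app U.1) (ht ⟨false⟩)).trans ?_
      exact (hcomm f U.1 _).trans ((hcomm b U.1 t₂).trans ht₂)

attribute [local instance] Groth.Agent.QCoh.hasFiniteBiproducts in
/-- Direct images along quasi-compact morphisms preserve filtered colimits of quasi-coherent modules. -/
theorem nonempty_isColimit_pushforward {Y : Scheme.{u}} (f : X ⟶ Y) [QuasiCompact f] [QuasiSeparated f]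
    [QuasiSeparatedSpace X] (hD : ∀ j, Coh.IsQCoh (D.obj j)) (hc : IsColimit c) :
    Nonempty (IsColimit ((Scheme.Modules.pushforward f).mapCocone c)) := by
  let P := Scheme.Modules.pushforward f
  let E := D ⋙ P
  have hE : ∀ j, Coh.IsQCoh (E.obj j) := fun j => isQCoh_pushforward f (hD j)
  let c' := colimit.cocone E
  have hc' : IsColimit c' := colimit.isColimit E
  let φ : c'.pt ⟶ (P.mapCocone c).pt := hc'.desc (P.mapCocone c)
  have hq₁ : Coh.IsQCoh c'.pt := isQCoh_colimit E hE
  have hq₂ : Coh.IsQCoh (P.mapCocone c).pt := isQCoh_pushforward f (isQCoh_pt hD hc)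
  have hφ : ∀ j, c'.ι.app j ≫ φ = (P.mapCocone c).ι.app j := fun j => hc'.fac _ j
  have hcov : ∀ x : Y, ∃ V : Y.affineOpens, x ∈ V.1 := fun x => by
    obtain ⟨V, hV, hxV⟩ := exists_affine_mem x
    exact ⟨⟨V, hV⟩, hxV⟩
  haveI : Mono φ := Preadditive.mono_of_isZero_kernel φ <|
    isZero_of_cover (isQCoh_kernel hq₁ hq₂ φ) (fun V : Y.affineOpens => V.1) (fun V => V.2) hcov
      fun V => subsingleton_of_forall_eq 0 fun x => app_injective (kernel.ι φ) V.1 (by
        rw [map_zero]
        obtain ⟨j, t, ht⟩ := exists_rep hE hc' V.2 ((kernel.ι φ).app V.1 x)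
        have h0 : ((P.mapCocone c).ι.app j).app V.1 t = 0 := by
          rw [← hφ j]
          show φ.app V.1 ((c'.ι.app j).app V.1 t) = 0
          rw [ht]
          exact congr(($(kernel.condition φ)).app V.1 x)
        obtain ⟨k, g, hg⟩ := exists_map_eq_zero_of_isCompact hD hc
          (f.isCompact_preimage V.2.isCompact) t h0
        rw [← ht, ← c'.w g]
        exact (congrArg ((c'.ι.app k).app V.1) hg).trans (map_zero _))
  haveI : Epi φ := epi_of_cover hq₁ hq₂ φ (fun V : Y.affineOpens => V.1) (fun V => V.2) hcov fun V y => by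
    obtain ⟨j, t, ht⟩ := exists_rep_of_qcqs hD hc (f.isCompact_preimage V.2.isCompact)
      (show Γ(c.pt, f ⁻¹ᵁ V.1) from y)
    refine ⟨(c'.ι.app j).app V.1 t, ?_⟩
    exact (congr(($(hφ j)).app V.1 t) : _).trans ht
  haveI := isIso_of_mono_of_epi φ
  exact ⟨hc'.ofIsoColimit (Cocone.ext (asIso φ) hφ)⟩

end Groth.Agent.QCohColim92
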