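import Groth.Agent.QCohColim92.FPHom
import Groth.Agent.QCohAb92.Grothendieck

/-!
# The compact objects of the category of quasi-coherent modules
-/

set_option autoImplicit false

universe u

open CategoryTheory CategoryTheory.Limits AlgebraicGeometry TopologicalSpace Opposite

namespace Groth.Agent.QCohColim92

open Groth.Agent.QCoh

section Module

variable {R : Type u} [CommRing R] (M : ModuleCat.{u} R)

theorem nonempty_isColimit_of_forget {J : Type u} [SmallCategory J] [IsFiltered J] {D : J ⥤ ModuleCat.{u} R}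
    (c : Cocone D) (h₁ : ∀ x : c.pt, ∃ (j : J) (y : D.obj j), c.ι.app j y = x)
    (h₂ : ∀ (j : J) (y : D.obj j), c.ι.app j y = 0 → ∃ (k : J) (f : j ⟶ k), D.map f y = 0) :
    Nonempty (IsColimit c) := by
  haveI := preservesColimitsOfShape_forget (J := J) R
  let c' := colimit.cocone D
  have hc' : IsColimit c' := colimit.isColimit D
  let φ := hc'.desc c
  have hφ : ∀ j, c'.ι.app j ≫ φ = c.ι.app j := fun j => hc'.fac c j
  have hinj : Function.Injective φ.hom := (injective_iff_map_eq_zero _).2 fun z hz => by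
    obtain ⟨j, y, hy⟩ := Concrete.isColimit_exists_rep _ hc' z
    obtain ⟨k, f, hf⟩ := h₂ j y (by rw [← hφ j, ModuleCat.comp_apply, hy]; exact hz)
    rw [← hy, ← c'.w f, ModuleCat.comp_apply, hf, map_zero]
  have hsurj : Function.Surjective φ.hom := fun x => by
    obtain ⟨j, y, hy⟩ := h₁ x
    exact ⟨c'.ι.app j y, by rw [← hy, ← hφ j, ModuleCat.comp_apply]⟩
  haveI : IsIso φ := (LinearEquiv.ofBijective φ.hom ⟨hinj, hsurj⟩).toModuleIso.isIso_hom
  exact ⟨hc'.ofIsoColimit (Cocone.ext (asIso φ) hφ)⟩

/-- The finitely generated submodules, as a diagram. -/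
noncomputable abbrev spanDiag : Finset M ⥤ ModuleCat.{u} R where
  obj S := ModuleCat.of R (Submodule.span R (S : Set M))
  map f := ModuleCat.ofHom (Submodule.inclusion (Submodule.span_mono (Finset.coe_subset.2 (leOfHom f))))
  map_id _ := rfl
  map_comp _ _ := rfl

/-- The inclusions of the finitely generated submodules. -/
noncomputable abbrev spanCocone : Cocone (spanDiag M) where
  pt := M
  ι := { app := fun S => ModuleCat.ofHom (Submodule.span R (S : Set M)).subtype
         naturality := fun _ _ _ => rfl }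

theorem finite_of_lifting
    (H : ∀ (c : Cocone (spanDiag M)) (_ : IsColimit c) (f : M ⟶ c.pt),
      ∃ (j : Finset M) (g : M ⟶ (spanDiag M).obj j), g ≫ c.ι.app j = f) :
    Module.Finite R M := by
  classical
  obtain ⟨hc⟩ := nonempty_isColimit_of_forget (spanCocone M)
    (fun x => ⟨{x}, ⟨x, Submodule.subset_span (by simp)⟩, rfl⟩)
    (fun S y hy => ⟨S, 𝟙 S, Subtype.ext hy⟩)
  obtain ⟨S, g, hg⟩ := H (spanCocone M) hc (𝟙 M)
  refine ⟨⟨S, top_unique fun x _ => ?_⟩⟩
  let s : M →ₗ[R] Submodule.span R (S : Set M) := g.hom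
  have hx : (s x : M) = x := LinearMap.congr_fun (congrArg ModuleCat.Hom.hom hg) x
  rw [← hx]
  exact (s x).2

variable {M} {n : ℕ} (π : (Fin n → R) →ₗ[R] M)

/-- Finitely many relations. -/
noncomputable def relSpan (S : Finset (LinearMap.ker π)) : Submodule R (Fin n → R) :=
  Submodule.span R ((Subtype.val : LinearMap.ker π → Fin n → R) '' (S : Set (LinearMap.ker π)))

theorem relSpan_le (S : Finset (LinearMap.ker π)) : relSpan π S ≤ LinearMap.ker π :=
  Submodule.span_le.2 (by rintro _ ⟨a, -, rfl⟩; exact a.2)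

theorem relSpan_mono {S T : Finset (LinearMap.ker π)} (h : S ≤ T) : relSpan π S ≤ relSpan π T :=
  Submodule.span_mono (Set.image_mono (Finset.coe_subset.2 h))

/-- The quotients by finitely many relations, as a diagram. -/
noncomputable abbrev relDiag : Finset (LinearMap.ker π) ⥤ ModuleCat.{u} R where
  obj S := ModuleCat.of R ((Fin n → R) ⧸ relSpan π S)
  map f := ModuleCat.ofHom (Submodule.factor (relSpan_mono π (leOfHom f)))
  map_id S := by
    apply ModuleCat.hom_ext
    refine LinearMap.ext fun x => ?_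
    obtain ⟨v, rfl⟩ := Submodule.mkQ_surjective _ x
    simp
  map_comp _ _ := by rw [← ModuleCat.ofHom_comp, Submodule.factor_comp]

/-- The projections from the quotients by finitely many relations. -/
noncomputable abbrev relCocone : Cocone (relDiag π) where
  pt := M
  ι := { app := fun S => ModuleCat.ofHom (Submodule.liftQ _ π (relSpan_le π S))
         naturality := fun S T f => by
           apply ModuleCat.hom_ext
           refine LinearMap.ext fun x => ?_
           obtain ⟨v, rfl⟩ := Submodule.mkQ_surjective _ x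
           simp }

theorem finitePresentation_of_lifting_rel (hπ : Function.Surjective π) [Module.Finite R M]
    (H : ∀ (c : Cocone (relDiag π)) (_ : IsColimit c) (f : M ⟶ c.pt),
      ∃ (j : Finset (LinearMap.ker π)) (g : M ⟶ (relDiag π).obj j), g ≫ c.ι.app j = f) :
    Module.FinitePresentation R M := by
  classical
  obtain ⟨hc⟩ := nonempty_isColimit_of_forget (relCocone π)
    (fun x => by obtain ⟨v, hv⟩ := hπ x; exact ⟨∅, Submodule.Quotient.mk v, hv⟩)
    (fun S y hy => by
      obtain ⟨v, rfl⟩ := Submodule.Quotient.mk_surjective _ y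
      let v' : LinearMap.ker π := ⟨v, hy⟩
      exact ⟨insert v' S, homOfLE (Finset.subset_insert _ _),
        (Submodule.Quotient.mk_eq_zero _).2 (show _ ∈ Submodule.span R _ from Submodule.subset_span ⟨v', by simp, rfl⟩)⟩)
  obtain ⟨S, g, hg⟩ := H (relCocone π) hc (𝟙 M)
  let q : ((Fin n → R) ⧸ relSpan π S) →ₗ[R] M := Submodule.liftQ _ π (relSpan_le π S)
  let s : M →ₗ[R] (Fin n → R) ⧸ relSpan π S := g.hom
  have hs : ∀ x, q (s x) = x := fun x => LinearMap.congr_fun (congrArg ModuleCat.Hom.hom hg) x
  haveI : Module.FinitePresentation R ((Fin n → R) ⧸ relSpan π S) :=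
    Module.finitePresentation_of_surjective (Submodule.mkQ _) (Submodule.mkQ_surjective _) (by
      rw [Submodule.ker_mkQ]
      rw [relSpan]; exact Submodule.fg_span (S.finite_toSet.image _))
  refine Module.finitePresentation_of_surjective q (fun x => ⟨s x, hs x⟩) ?_
  have hker : LinearMap.ker q = LinearMap.range (LinearMap.id - s ∘ₗ q) := by
    ext x
    constructor
    · intro hx
      exact ⟨x, by simp [LinearMap.mem_ker.1 hx]⟩
    · rintro ⟨y, rfl⟩
      simp [hs]
  rw [hker, LinearMap.range_eq_map]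
  exact Submodule.FG.map _ Module.Finite.fg_top

variable (M)

/-- Lifting of morphisms into filtered colimits characterizes finite presentation. -/
theorem finitePresentation_of_lifting
    (H : ∀ (J : Type u) [SmallCategory J] [IsFiltered J] (D : J ⥤ ModuleCat.{u} R) (c : Cocone D)
      (_ : IsColimit c) (f : M ⟶ c.pt), ∃ (j : J) (g : M ⟶ D.obj j), g ≫ c.ι.app j = f) :
    Module.FinitePresentation R M := by
  classical
  haveI := finite_of_lifting M (fun c hc f => H (Finset M) (spanDiag M) c hc f)
  obtain ⟨n, π, hπ⟩ := Module.Finite.exists_fin' R M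
  exact finitePresentation_of_lifting_rel π hπ
    (fun c hc f => H (Finset (LinearMap.ker π)) (relDiag π) c hc f)

end Module

variable {X : Scheme.{u}}

theorem finitePresentation_of_compact [CompactSpace X] [QuasiSeparatedSpace X] (F : QCohCat.QCoh X)
    [IsFinitelyPresentable.{u} F] {U : X.Opens} (hU : IsAffineOpen U) :
    Module.FinitePresentation Γ(X, U) Γ(F.obj, U) := by
  haveI : QuasiCompact hU.fromSpec := QuasiCompact.of_comp hU.fromSpec (terminal.from X)
  haveI : QuasiSeparated hU.fromSpec := QuasiSeparated.of_quasiSeparatedSpace hU.fromSpec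
  let M := (chartFunctor hU).obj F.obj
  suffices h : Module.FinitePresentation Γ(X, U) M by
    haveI : Module.FinitePresentation Γ(X, U)
        (moduleSpecΓFunctor.obj (F.obj.restrict hU.fromSpec)) := h
    exact Module.FinitePresentation.of_equiv (chartEquiv hU F.obj).symm
  refine finitePresentation_of_lifting M fun J _ _ D c hc f => ?_
  let adj := Scheme.Modules.restrictAdjunction hU.fromSpec
  let P := Scheme.Modules.pushforward hU.fromSpec
  have hq : ∀ N : ModuleCat.{u} Γ(X, U), Coh.IsQCoh (tilde N) := fun N => (inferInstance : (tilde N).IsQuasicoherent)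
  let c₁ := (tilde.functor Γ(X, U)).mapCocone c
  have hc₁ : IsColimit c₁ := isColimitOfPreserves _ hc
  obtain ⟨hc₂⟩ := nonempty_isColimit_pushforward hU.fromSpec
    (D := D ⋙ tilde.functor Γ(X, U)) (fun j => hq (D.obj j)) hc₁
  have hP : ∀ N : ModuleCat.{u} Γ(X, U), Coh.IsQCoh (P.obj (tilde N)) :=
    fun N => isQCoh_pushforward hU.fromSpec (hq N)
  let E : ModuleCat.{u} Γ(X, U) ⥤ QCohCat.QCoh X :=
    ObjectProperty.lift (QCohCat.isQCoh X) (tilde.functor Γ(X, U) ⋙ P) hP
  have hc₃ : IsColimit (E.mapCocone c) := isColimitOfReflects (QCohCat.isQCoh X).ι hc₂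
  haveI : IsIso (F.obj.restrict hU.fromSpec).fromTildeΓ :=
    (isQuasicoherent_iff_isIso_fromTildeΓ _).1 (isQCoh_restrict hU.fromSpec F.property)
  let e : F.obj.restrict hU.fromSpec ≅ tilde M :=
    (asIso (F.obj.restrict hU.fromSpec).fromTildeΓ).symm
  let η : F ⟶ E.obj c.pt :=
    ObjectProperty.homMk ((adj.homEquiv F.obj (tilde c.pt)) (e.hom ≫ (tilde.functor _).map f))
  obtain ⟨j, ψ, hψ⟩ := IsFinitelyPresentable.exists_hom_of_isColimit hc₃ η
  refine ⟨j, (tilde.functor Γ(X, U)).preimage (e.inv ≫ (adj.homEquiv F.obj (tilde (D.obj j))).symm ψ.hom),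
    (tilde.functor Γ(X, U)).map_injective ?_⟩
  rw [Functor.map_comp, Functor.map_preimage]
  refine (Category.assoc _ _ _).trans ((Iso.inv_comp_eq e).2 ?_)
  refine (adj.homEquiv_naturality_right_symm ψ.hom ((tilde.functor _).map (c.ι.app j))).symm.trans ?_
  exact (Equiv.symm_apply_eq _).2 (congrArg InducedCategory.Hom.hom hψ)

theorem isFinitelyPresentable_of_isFP [CompactSpace X] [QuasiSeparatedSpace X] (F : QCohCat.QCoh X)
    (hF : CohB1.IsFP F.obj) : IsFinitelyPresentable.{u} F := by
  rw [isFinitelyPresentable_iff_preservesFilteredColimitsOfSize]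
  refine ⟨fun J _ _ => ⟨fun {D} => ⟨fun {c} hc => ?_⟩⟩⟩
  haveI := Groth.Agent.QCohAb92.preservesColimits_ι X
  have hc' : IsColimit ((QCohCat.isQCoh X).ι.mapCocone c) := isColimitOfPreserves _ hc
  have hD : ∀ j, Coh.IsQCoh ((D ⋙ (QCohCat.isQCoh X).ι).obj j) := fun j => (D.obj j).property
  refine ⟨Types.FilteredColimit.isColimitOf _ _ (fun φ => ?_) fun i j p q h => ?_⟩
  · let φ' : F ⟶ c.pt := φ
    obtain ⟨j, ψ, hψ⟩ := exists_hom_lift hD hc' hF φ'.hom
    exact ⟨j, (ObjectProperty.homMk ψ : F ⟶ D.obj j), (InducedCategory.hom_ext hψ).symm⟩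
  · let p' : F ⟶ D.obj i := p
    let q' : F ⟶ D.obj j := q
    let a := IsFiltered.leftToMax i j
    let b := IsFiltered.rightToMax i j
    have h' : p' ≫ c.ι.app i = q' ≫ c.ι.app j := h
    obtain ⟨k, f, hf⟩ := exists_comp_eq_zero hD hc' F.property
      ((isFT_iff F.property).2 fun U => haveI := finitePresentation_of_isFP hF U.2; inferInstance)
      ((p' ≫ D.map a).hom - (q' ≫ D.map b).hom) (by
        rw [Preadditive.sub_comp, sub_eq_zero]
        have : (p' ≫ D.map a) ≫ c.ι.app _ = (q' ≫ D.map b) ≫ c.ι.app _ := by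
          rw [Category.assoc, Category.assoc, c.w, c.w, h']
        exact congrArg InducedCategory.Hom.hom this)
    refine ⟨k, a ≫ f, b ≫ f, ?_⟩
    show p' ≫ D.map (a ≫ f) = q' ≫ D.map (b ≫ f)
    rw [Preadditive.sub_comp, sub_eq_zero] at hf
    rw [D.map_comp, D.map_comp, ← Category.assoc, ← Category.assoc]
    exact InducedCategory.hom_ext hf

theorem isFinitelyPresentable_iff_isFP [CompactSpace X] [QuasiSeparatedSpace X] (F : QCohCat.QCoh X) :
    IsFinitelyPresentable.{u} F ↔ CohB1.IsFP F.obj :=
  ⟨fun _ => (isFP_iff F.property).2 fun U => finitePresentation_of_compact F U.2,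
    isFinitelyPresentable_of_isFP F⟩

end Groth.Agent.QCohColim92
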