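import Groth.Agent.QCoh.FT
import Groth.Agent.QCoh.Tilde
import Mathlib

/-!
# Sections over affine opens of colimits of quasi-coherent modules
-/

set_option autoImplicit false

universe u

open CategoryTheory CategoryTheory.Limits AlgebraicGeometry TopologicalSpace Opposite

namespace Groth.Agent.QCohColim92

open Groth.Agent.QCoh

variable {X : Scheme.{u}} {J : Type u} [SmallCategory J] {D : J ⥤ X.Modules} {c : Cocone D}

theorem isQCoh_pt (hD : ∀ j, Coh.IsQCoh (D.obj j)) (hc : IsColimit c) : Coh.IsQCoh c.pt :=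
  (isQCoh_iff_iso ((colimit.isColimit D).coconePointUniqueUpToIso hc)).1 (isQCoh_colimit D hD)

/-- Modules of global sections on a chart. -/
noncomputable abbrev chartFunctor {U : X.Opens} (hU : IsAffineOpen U) :
    X.Modules ⥤ ModuleCat.{u} Γ(X, U) :=
  Scheme.Modules.restrictFunctor hU.fromSpec ⋙ moduleSpecΓFunctor (R := Γ(X, U))

/-- Sections over an affine open turn colimits of quasi-coherent modules into colimits. -/
noncomputable def isColimitChart (hD : ∀ j, Coh.IsQCoh (D.obj j)) (hc : IsColimit c) {U : X.Opens}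
    (hU : IsAffineOpen U) : IsColimit ((chartFunctor hU).mapCocone c) := by
  let R := Scheme.Modules.restrictFunctor hU.fromSpec
  have hq : ∀ j, IsIso ((D ⋙ R).obj j).fromTildeΓ := fun j =>
    (isQuasicoherent_iff_isIso_fromTildeΓ _).1 (isQCoh_restrict hU.fromSpec (hD j))
  let e : (D ⋙ R ⋙ moduleSpecΓFunctor (R := Γ(X, U))) ⋙ tilde.functor Γ(X, U) ≅ D ⋙ R :=
    NatIso.ofComponents (fun j => @asIso _ _ _ _ (Scheme.Modules.fromTildeΓ ((D ⋙ R).obj j)) (hq j))
      fun f => (tilde.adjunction (R := Γ(X, U))).counit.naturality ((D ⋙ R).map f)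
  have h : IsColimit ((tilde.functor Γ(X, U)).mapCocone ((chartFunctor hU).mapCocone c)) := by
    refine (IsColimit.equivOfNatIsoOfIso e _ (R.mapCocone c) ?_).2 (isColimitOfPreserves R hc)
    refine Cocone.ext (@asIso _ _ _ _ (Scheme.Modules.fromTildeΓ (R.obj c.pt)) ((isQuasicoherent_iff_isIso_fromTildeΓ _).1 (isQCoh_restrict hU.fromSpec (isQCoh_pt hD hc)))) fun j => ?_
    show (e.inv.app j ≫ _) ≫ _ = _
    rw [Category.assoc]
    refine (congrArg (e.inv.app j ≫ ·) ((tilde.adjunction (R := Γ(X, U))).counit.naturality ((R.mapCocone c).ι.app j))).trans ?_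
    exact (@IsIso.inv_hom_id_assoc _ _ _ _ (Scheme.Modules.fromTildeΓ ((D ⋙ R).obj j)) (hq j) _ _)
  exact isColimitOfReflects (tilde.functor Γ(X, U)) h

theorem chart_map {U : X.Opens} (hU : IsAffineOpen U) {A B : X.Modules} (φ : A ⟶ B) (x : Γ(A, U)) :
    (chartFunctor hU).map φ (chartEquiv hU A x) = chartEquiv hU B (φ.app U x) :=
  (map_app_comm φ (homOfLE (image_top_fromSpec hU).le) x).symm ▸ rfl

theorem preservesColimitsOfShape_forget [IsFiltered J] (R : Type u) [Ring R] :
    PreservesColimitsOfShape J (forget (ModuleCat.{u} R)) :=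
  PreservesFilteredColimitsOfSize.preserves_filtered_colimits _

theorem exists_rep [IsFiltered J] (hD : ∀ j, Coh.IsQCoh (D.obj j)) (hc : IsColimit c) {U : X.Opens}
    (hU : IsAffineOpen U) (s : Γ(c.pt, U)) : ∃ (j : J) (t : Γ(D.obj j, U)), (c.ι.app j).app U t = s := by
  haveI := preservesColimitsOfShape_forget (J := J) Γ(X, U)
  obtain ⟨j, t, ht⟩ := Concrete.isColimit_exists_rep _ (isColimitChart hD hc hU) (chartEquiv hU c.pt s)
  refine ⟨j, (chartEquiv hU (D.obj j)).symm t, (chartEquiv hU c.pt).injective (Eq.trans ?_ ht)⟩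
  rw [← chart_map, LinearEquiv.apply_symm_apply]
  rfl

theorem exists_map_eq_zero [IsFiltered J] (hD : ∀ j, Coh.IsQCoh (D.obj j)) (hc : IsColimit c) {U : X.Opens}
    (hU : IsAffineOpen U) {j : J} (t : Γ(D.obj j, U)) (h : (c.ι.app j).app U t = 0) :
    ∃ (k : J) (f : j ⟶ k), (D.map f).app U t = 0 := by
  haveI := preservesColimitsOfShape_forget (J := J) Γ(X, U)
  have h0 : ((chartFunctor hU).mapCocone c).ι.app j (chartEquiv hU (D.obj j) t) =
      ((chartFunctor hU).mapCocone c).ι.app j 0 := by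
    rw [map_zero]
    exact (chart_map hU (c.ι.app j) t).trans (by rw [h, map_zero])
  obtain ⟨k, f, g, hk⟩ :=
    (Types.FilteredColimit.isColimit_eq_iff _
      (isColimitOfPreserves (forget (ModuleCat.{u} Γ(X, U))) (isColimitChart hD hc hU))).1 h0
  refine ⟨k, f, (chartEquiv hU (D.obj k)).injective ?_⟩
  rw [map_zero, ← chart_map]
  exact hk.trans (map_zero ((chartFunctor hU).map (D.map g)).hom)

end Groth.Agent.QCohColim92
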